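import Groth.Agent.Lib.ShriekPerf22.Main
import Groth.Agent.Lib.HomBC22.ShriekBC
import Groth.Agent.Lib.RightAdj22.Finite
import Groth.Agent.Lib.PerfHom.Examples

/-! # The upper shriek of an étale morphism is the pullback -/

set_option autoImplicit false
set_option maxHeartbeats 1000000
set_option linter.style.haveILetI false
set_option backward.isDefEq.respectTransparency false
universe u

open CategoryTheory CategoryTheory.Limits AlgebraicGeometry GrothLib.OX GrothLib.RightAdj22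

attribute [local instance] HasDerivedCategory.standard

noncomputable section

namespace GrothLib.ShriekPerf22

variable {X Y : Scheme.{u}}

theorem isPerfectMor_of_flat (f : X ⟶ Y) [Flat f] [LocallyOfFinitePresentation f] : MoreMor.IsPerfectMor f :=
  fun U V hU hV hUV => by
    letI := (f.appLE V U hUV).hom.toAlgebra
    haveI : Module.Flat Γ(Y, V) Γ(X, U) := Flat.flat_appLE f hV hU hUV
    haveI : Algebra.FinitePresentation Γ(Y, V) Γ(X, U) := LocallyOfFinitePresentation.finitePresentation_appLE f hV hU hUV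
    exact PHom.isPerfectHom_of_flat

theorem lpull_id (X : Scheme.{u}) [DCoh.HasLpull (𝟙 X)] : Nonempty (DCoh.Lpull (𝟙 X) ≅ 𝟭 (DCoh.D X)) := by
  obtain ⟨e⟩ := SuppTens22.nonempty_lpull_openImmersion (𝟙 X)
  exact ⟨e ≪≫ resDIdIso X⟩

/-- **`f^!O ≅ O` for an étale morphism.** -/
theorem nonempty_shriekC_etale_O [AlgebraicGeometry.IsNoetherian X] [AlgebraicGeometry.IsNoetherian Y]
    (f : X ⟶ Y) [Etale f] (c : DEt.Compactification f) [DCoh.HasRpush c.fbar]
    (hc : DCoh.RpushPreservesQCoh c.fbar) {a : DCoh.DQCoh Y ⥤ DCoh.DQCoh c.Xbar}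
    (adj : DCoh.RpushQ c.fbar hc ⊣ a)
    [∀ (U V : Scheme.{u}) (j : U ⟶ V) [IsOpenImmersion j], PreservesFiniteLimits (Scheme.Modules.restrictFunctor j)]
    (O : DCoh.DQCoh Y) (hO : Nonempty (O.obj ≅ DCoh.inD Y (Coh.structureModule Y))) :
    Nonempty ((Dual3.shriekC c a).obj O ≅ DerivedCategory.Q.obj (unitCx X)) := by
  let X' := pullback f f
  let g' : X' ⟶ X := pullback.fst f f
  let f' : X' ⟶ X := pullback.snd f f
  haveI : QuasiCompact f := quasiCompact_of_compactSpace f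
  haveI : LocallyOfFiniteType f' := inferInstance
  haveI : IsLocallyNoetherian X' := LocallyOfFiniteType.isLocallyNoetherian f'
  haveI : CompactSpace X' := QuasiCompact.compactSpace_of_compactSpace f'
  haveI : AlgebraicGeometry.IsNoetherian X' := {}
  let Xb := pullback c.fbar f
  let j' : X' ⟶ Xb := pullback.map f f c.fbar f c.j (𝟙 X) (𝟙 Y) (by simp [c.fac]) (by simp)
  let c' : DEt.Compactification f' :=
    ⟨Xb, j', pullback.snd c.fbar f, inferInstance, inferInstance, by simp [j', f']⟩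
  haveI := isNoetherian_of_proper c'.fbar
  haveI : QuasiSeparated c'.fbar := inferInstance
  haveI : DCoh.HasRpush c'.fbar := KInj.hasRightDerivedFunctor _
  have hc' : DCoh.RpushPreservesQCoh c'.fbar := fun K hK =>
    KSix19.BettiExact.isQCohD_of_iso' ((rpushIsoRres c'.fbar).app K).symm (isQCohD_Rres c'.fbar K hK)
  let adj' := (aQAdj c'.fbar).ofNatIsoLeft (rpushQIso c'.fbar hc').symm
  haveI := hasLpull f
  haveI := hasLpull g'
  have hLg : Dual3.LpullPreservesQCoh f := fun _ hK => TorBC25.isQCohD_lpull f hK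
  obtain ⟨b⟩ := HomBC22.nonempty_shriekC_bc (IsPullback.of_hasPullback f f) c c' hc hc' adj adj' hLg
  have hO0 := ShriekBridge22.isGE_zero_of_iso_structure hO
  obtain ⟨eO⟩ := hO
  let O₁ : BQ Y := ⟨O, 0, hO0⟩
  let OX : DCoh.DQCoh X := (Dual3.LpullQ f hLg).obj O
  obtain ⟨l⟩ := Detect22.nonempty_lpull_unit f
  let eX : OX.obj ≅ DerivedCategory.Q.obj (unitCx X) := (DCoh.Lpull f).mapIso (eO ≪≫ (unitCxQIso Y).symm) ≪≫ l
  have hX0 : OX.obj.IsGE 0 := ShriekBridge22.isGE_zero_of_iso_structure ⟨eX ≪≫ unitCxQIso X⟩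
  let O₂ : BQ X := ⟨OX, 0, hX0⟩
  obtain ⟨s⟩ := nonempty_shriekC c' hc' adj'
  -- the diagonal
  let Δ : X ⟶ X' := pullback.diagonal f
  haveI hΔ : IsOpenImmersion Δ := inferInstanceAs (IsOpenImmersion (pullback.diagonal f))
  haveI hj' : IsOpenImmersion c'.j := c'.isOpenImmersion
  haveI : IsOpenImmersion (Δ ≫ c'.j) := IsOpenImmersion.comp (f := Δ) (g := c'.j)
  haveI := hasLpull Δ
  haveI := hasLpull (Δ ≫ g')
  haveI := hasLpull (𝟙 X)
  obtain ⟨lΔ⟩ := SuppTens22.nonempty_lpull_openImmersion Δ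
  obtain ⟨lid⟩ := lpull_id X
  obtain ⟨lc⟩ := lpull_congr (pullback.diagonal_fst f : Δ ≫ g' = 𝟙 X)
  have hfac : (Δ ≫ c'.j) ≫ c'.fbar = 𝟙 X ≫ 𝟙 X := by
    rw [Category.assoc, c'.fac, Category.id_comp]; exact pullback.diagonal_snd f
  obtain ⟨i⟩ := nonempty_shB_indep (Δ ≫ c'.j) c'.fbar (𝟙 X) (𝟙 X) hfac
  let u : shB c'.j c'.fbar ⋙ resB Δ ≅ 𝟭 (BQ X) :=
    Functor.associator _ _ _ ≪≫ Functor.isoWhiskerLeft (aB c'.fbar) (resBComp Δ c'.j) ≪≫ i ≪≫
      Functor.isoWhiskerRight aBId (resB (𝟙 X)) ≪≫ Functor.leftUnitor _ ≪≫ resBId X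
  exact ⟨((lid.app _).symm ≪≫ (lc.app _).symm ≪≫ ((lpullCompIso Δ g').app _).symm ≪≫
      (DCoh.Lpull Δ).mapIso (b.app O₁ ≪≫ s.app O₂) ≪≫ lΔ.app _ ≪≫
      (BQι X).mapIso (u.app O₂)) ≪≫ eX⟩

end GrothLib.ShriekPerf22
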