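import Groth.Agent.Lib.DualRing.ShriekTensor
import Groth.Agent.Lib.KSix19.AffineModel
import Groth.Agent.Lib.KSix19.ImmPC
import Groth.Agent.Lib.ShriekBridge22.PerfShriek

/-! # The upper shriek of a perfect morphism and `Lf^*(-) ⊗^L f^!O` on charts -/

set_option autoImplicit false
set_option linter.style.haveILetI false
set_option maxHeartbeats 1000000
universe u

open CategoryTheory CategoryTheory.Limits AlgebraicGeometry HomologicalComplex GrothLib.OX GrothLib.DualCx22 TensorProduct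
open GrothLib.RH (tens)

attribute [local instance] HasDerivedCategory.standard
attribute [local instance] GrothLib.DualRing.Shriek.pfl_of_flat

namespace GrothLib.ShriekPerf22

open GrothLib.DualRing GrothLib.DualRing.Shriek

/-- **The upper shriek, through the relative dualizing complex.** -/
theorem nonempty_GP_iso_LTensor_of_perfect {R A : Type u} [CommRing R] [CommRing A] [IsNoetherianRing R] [Algebra R A]
    (hperf : MoreMor.IsPerfectHom R A) {n : ℕ} (ψ : MvPolynomial (Fin n) R →ₐ[R] A)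
    (hψ : Function.Surjective ψ) (W : DRing.Cx A) (eW : DRing.toD W ≅ GP ψ (Dual.inD R R))
    [DRing.HasLBaseChange (algebraMap R A)] [DRing.HasLTensorCx A W] (K : Dual.D R) :
    Nonempty (GP ψ K ≅ (DRing.LTensorCx A W).obj ((DRing.LBaseChange (algebraMap R A)).obj K)) := by
  let φ : MvPolynomial (Fin n) R →+* A := ψ.toRingHom
  letI : Algebra (MvPolynomial (Fin n) R) A := φ.toAlgebra
  obtain ⟨E, a, b, ε, hE, hab, hε⟩ := exists_eps φ (PHom.isPerfectModule_pres hperf ψ hψ)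
  obtain ⟨eP⟩ := nonempty_bcD_self (R := R) (P := MvPolynomial (Fin n) R)
  let eW0 : DRing.toD (W⟦(-(n : ℤ))⟧) ≅ (RA φ).obj (Dual.inD (MvPolynomial (Fin n) R) (MvPolynomial (Fin n) R)) :=
    ((DerivedCategory.Q (C := ModuleCat.{u} A)).commShiftIso (-(n : ℤ))).app W ≪≫
      (shiftFunctor (Dual.D A) (-(n : ℤ))).mapIso eW ≪≫
      (shiftFunctorCompIsoId (Dual.D A) (n : ℤ) (-(n : ℤ)) (add_neg_cancel _)).app _ ≪≫ (RA φ).mapIso eP
  obtain ⟨F₀, hF₀, -, ⟨e₀⟩⟩ := GrothLib.KF.exists_kflat_rep K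
  let a₁ := algebraMap R (MvPolynomial (Fin n) R)
  let F := (DR.bc a₁).obj F₀
  have hF : GrothLib.KF.IsKFlat F := GrothLib.KF.isKFlat_baseChange a₁ F₀ hF₀
  haveI : DRing.HasLBaseChange a₁ := GrothLib.KF.hasLBaseChange a₁
  haveI : DRing.HasLBaseChange φ := GrothLib.KF.hasLBaseChange φ
  obtain ⟨eL⟩ := nonempty_lBase_iso_bcD (A := R) (MvPolynomial (Fin n) R)
  obtain ⟨eF⟩ := GrothLib.KF.lBase_value a₁ hF₀
  let eK : (bcD (A := R) (MvPolynomial (Fin n) R)).obj K ≅ DRing.toD F :=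
    (bcD (A := R) (MvPolynomial (Fin n) R)).mapIso e₀.symm ≪≫ (eL.app _).symm ≪≫ eF
  obtain ⟨eT⟩ := Act.nonempty_RA_iso_tens φ ε hE hab (W⟦(-(n : ℤ))⟧) eW0 F hF
  -- the value of the tensor product
  let G := (DR.bc φ).obj F
  have hG : GrothLib.KF.IsKFlat G := GrothLib.KF.isKFlat_baseChange φ F hF
  obtain ⟨eG⟩ := GrothLib.KF.lBase_value φ hF
  obtain ⟨ec⟩ := DR.nonempty_lBase_comp a₁ φ (algebraMap R A) ψ.comp_algebraMap.symm (DRing.toD F₀)
  obtain ⟨eV⟩ := GrothLib.KF.lTensorCx_value W hG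
  let eR : (DRing.LTensorCx A W).obj ((DRing.LBaseChange (algebraMap R A)).obj K) ≅ DRing.toD (tens W G) :=
    (DRing.LTensorCx A W).mapIso ((DRing.LBaseChange (algebraMap R A)).mapIso e₀.symm ≪≫ ec.symm ≪≫
      (DRing.LBaseChange φ).mapIso eF ≪≫ eG) ≪≫ eV ≪≫
      DerivedCategory.Q.mapIso (GrothLib.KF.tensorCxSymm G W).symm
  exact ⟨(shiftFunctor (Dual.D A) (n : ℤ)).mapIso ((RA φ).mapIso eK ≪≫ eT ≪≫
      DerivedCategory.Q.mapIso (tensShiftIso W G (-(n : ℤ))) ≪≫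
      ((DerivedCategory.Q (C := ModuleCat.{u} A)).commShiftIso (-(n : ℤ))).app (tens W G)) ≪≫
    (shiftFunctorCompIsoId (Dual.D A) (-(n : ℤ)) (n : ℤ) (neg_add_cancel _)).app _ ≪≫ eR.symm⟩

section Model

open GrothLib.KSix19

variable {X X' : Scheme.{u}} {A B : Type u} [CommRing A] [CommRing B]

set_option backward.isDefEq.respectTransparency false in
/-- The pullback of a model. -/
theorem isModel_lpull_unbounded (p : X' ⟶ X) [DCoh.HasLpull p] (j : Spec (CommRingCat.of A) ⟶ X) [IsOpenImmersion j]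
    (j' : Spec (CommRingCat.of B) ⟶ X') [IsOpenImmersion j'] (φ : A →+* B) (w : j' ≫ p = specHom φ ≫ j)
    {K : DCoh.D X} {C : DRing.Cx A} (hkC : KF.IsKFlat C) (hC : IsModel j C K) :
    IsModel j' ((DR.bc φ).obj C) ((DCoh.Lpull p).obj K) := by
  obtain ⟨eC⟩ := hC
  obtain ⟨G, ⟨e⟩⟩ := exists_rep K
  obtain ⟨P, hkP, ⟨eP⟩⟩ := exists_kflat_rep (DCoh.toD X G)
  let jP := (pullCxF j).obj P
  have hkjP : DCoh.IsKFlat jP := isKFlat_pullback j hkP
  haveI := hasLpull (specHom φ)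
  obtain ⟨v⟩ := lpull_value p P hkP
  obtain ⟨v₁⟩ := lpull_value (specHom φ) jP hkjP
  obtain ⟨v₂⟩ := lpull_value (specHom φ) (tlCx C) (kflat_tilde hkC)
  let a : DerivedCategory.Q.obj jP ≅ DerivedCategory.Q.obj (tlCx C) :=
    DerivedCategory.Q.mapIso ((resPullCxIso j).app P).symm ≪≫ ((resDFac j).app P).symm ≪≫
      (resD j).mapIso (eP ≪≫ e) ≪≫ eC
  let c : (resCx j').obj ((pullCxF p).obj P) ≅ (pullCxF (specHom φ)).obj jP :=
    (resPullCxIso j').app _ ≪≫ (NatIso.mapHomologicalComplex (Scheme.Modules.pullbackComp j' p ≪≫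
      Scheme.Modules.pullbackCongr w ≪≫ (Scheme.Modules.pullbackComp (specHom φ) j).symm) (ComplexShape.up ℤ)).app P
  exact ⟨(resD j').mapIso ((DCoh.Lpull p).mapIso (e.symm ≪≫ eP.symm) ≪≫ v) ≪≫ (resDFac j').app _ ≪≫
    DerivedCategory.Q.mapIso c ≪≫ v₁.symm ≪≫ (DCoh.Lpull (specHom φ)).mapIso a ≪≫ v₂ ≪≫
    DerivedCategory.Q.mapIso ((tildePullCxIso φ).app C)⟩

end Model

variable {X Y : Scheme.{u}} (f : X ⟶ Y) [AlgebraicGeometry.IsNoetherian Y] [LocallyOfFiniteType f]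
  (hperf : MoreMor.IsPerfectMor f)
  (c : DEt.Compactification f) [DCoh.HasRpush c.fbar]
  (hc : DCoh.RpushPreservesQCoh c.fbar) {a : DCoh.DQCoh Y ⥤ DCoh.DQCoh c.Xbar}
  (adj : DCoh.RpushQ c.fbar hc ⊣ a) [PreservesFiniteLimits (Scheme.Modules.restrictFunctor c.j)]

include adj hperf in
/-- **`f^!K` and `Lf^*K ⊗^L f^!O` agree on charts**, for bounded below `K`. -/
theorem exists_chart_iso [DCoh.HasLpull f] (O : DCoh.DQCoh Y)
    (hO : Nonempty (O.obj ≅ DCoh.inD Y (Coh.structureModule Y))) (E : CochainComplex X.Modules ℤ)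
    (hE : Nonempty (DCoh.toD X E ≅ (Dual3.shriekC c a).obj O)) [DCoh.HasLTensorCx E]
    (K : DCoh.DQCoh Y) (c₀ : ℤ) (hK : K.obj.IsGE c₀) (x : X) :
    ∃ (U : X.Opens) (hU : IsAffineOpen U), x ∈ U ∧
      Nonempty ((resD hU.fromSpec).obj ((Dual3.shriekC c a).obj K) ≅
        (resD hU.fromSpec).obj ((DCoh.LTensorCx E).obj ((DCoh.Lpull f).obj K.obj))) := by
  haveI : ∀ R : CommRingCat.{u}, PreservesFiniteLimits (tilde.functor R) := OX.preservesFiniteLimits_tildeGen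
  obtain ⟨U, hU, V, hV, hUV, hx⟩ := ShriekBridge22.exists_affine_nhds f x
  letI := (f.appLE V U hUV).hom.toAlgebra
  obtain ⟨hN, hft, _, n, ψ, hψ⟩ := ShriekBridge22.exists_chart_pres f U hU V hV hUV
  haveI := hN
  obtain ⟨L, ⟨eL⟩⟩ := exists_tildeD_rep (R := Γ(Y, V)) K.property hV.fromSpec
  have w : hU.fromSpec ≫ f = Spec.map (CommRingCat.ofHom (algebraMap Γ(Y, V) Γ(X, U))) ≫ hV.fromSpec :=
    (IsAffineOpen.SpecMap_appLE_fromSpec f hV hU hUV).symm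
  obtain ⟨g⟩ := ShriekBridge22.nonempty_shriekC_chart c hc adj hV.fromSpec hU.fromSpec w ψ hψ K c₀ hK L eL.symm
  obtain ⟨o⟩ := ShriekBridge22.nonempty_shriekC_O c hc adj O hO U hU V hV hUV ψ hψ
  obtain ⟨eE⟩ := hE
  obtain ⟨W, hW, -, ⟨eW⟩⟩ := KF.exists_kflat_rep (GP ψ (Dual.inD Γ(Y, V) Γ(Y, V)))
  obtain ⟨C, hC, -, ⟨eC⟩⟩ := KF.exists_kflat_rep L
  haveI := KF.hasLBaseChange (algebraMap Γ(Y, V) Γ(X, U))
  haveI := KF.hasLTensorCx W
  obtain ⟨r⟩ := nonempty_GP_iso_LTensor_of_perfect (hperf U V hU hV hUV) ψ hψ W eW L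
  obtain ⟨b⟩ := KF.lBase_value (algebraMap Γ(Y, V) Γ(X, U)) hC
  let G := (DR.bc (algebraMap Γ(Y, V) Γ(X, U))).obj C
  obtain ⟨v⟩ := KF.lTensorCx_value W (KF.isKFlat_baseChange (algebraMap Γ(Y, V) Γ(X, U)) C hC)
  have hCm : KSix19.IsModel hV.fromSpec C K.obj := ⟨eL.symm ≪≫ (DCoh.tildeD _).mapIso eC.symm ≪≫
    (tilde.functor Γ(Y, V)).mapDerivedCategoryFactors.app C⟩
  have hWm : KSix19.IsModel hU.fromSpec W (DCoh.toD X E) := ⟨(resD hU.fromSpec).mapIso eE ≪≫ o ≪≫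
    (DCoh.tildeD _).mapIso eW.symm ≪≫ (tilde.functor Γ(X, U)).mapDerivedCategoryFactors.app W⟩
  obtain ⟨m⟩ := KSix19.isModel_ltensor hU.fromSpec E ((DCoh.Lpull f).obj K.obj) hW
    (isModel_lpull_unbounded f hV.fromSpec hU.fromSpec (algebraMap Γ(Y, V) Γ(X, U)) w hC hCm) hWm
  exact ⟨U, hU, hx, ⟨g ≪≫ (DCoh.tildeD _).mapIso (r ≪≫ (DRing.LTensorCx Γ(X, U) W).mapIso
      ((DRing.LBaseChange _).mapIso eC.symm ≪≫ b) ≪≫ v) ≪≫
    (tilde.functor Γ(X, U)).mapDerivedCategoryFactors.app _ ≪≫ m.symm⟩⟩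

end GrothLib.ShriekPerf22
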