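import Groth.Agent.Lib.ModDesc.Basic
import Groth.Agent.Lib.OX.SumSections

/-! # Quasi-coherent modules are quotients of direct sums of coherent ones -/

set_option autoImplicit false
set_option linter.style.haveILetI false
universe u

open CategoryTheory CategoryTheory.Limits AlgebraicGeometry Opposite TopologicalSpace

namespace GrothLib.ShriekPerf22

/-- **A quasi-coherent module on a locally Noetherian scheme is a quotient of a sum of coherent modules.** -/
theorem exists_coh_cover {X : Scheme.{u}} [IsLocallyNoetherian X] (M : X.Modules) (hM : Coh.IsQCoh M) :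
    ∃ (ι : Type u) (F : ι → X.Modules) (q : ∀ k, F k ⟶ M), (∀ k, Coh.IsCoh (F k)) ∧
      ∀ (W : X.Modules) (g : M ⟶ W), (∀ k, q k ≫ g = 0) → g = 0 := by
  haveI : M.IsQuasicoherent := hM
  let ι := Σ V : X.affineOpens, Γ(M, V.1)
  choose F hF q hq using fun k : ι => ModDesc.exists_coh_through M 1 (fun _ => k.1.1) (fun _ => k.1.2) (fun _ => k.2)
  refine ⟨ι, F, q, hF, fun W g hg => ?_⟩
  have h0 : ∀ (V : X.affineOpens) (s : Γ(M, V.1)), g.app V.1 s = 0 := fun V s => by
    obtain ⟨t, ht⟩ := hq ⟨V, s⟩ 0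
    have ht' : (q ⟨V, s⟩).app V.1 t = s := ht
    rw [← ht', ← ConcreteCategory.comp_apply, ← Scheme.Modules.Hom.comp_app, hg]
    simp
  refine Scheme.Modules.hom_ext _ _ fun U => ?_
  refine ConcreteCategory.hom_ext _ _ fun m => ?_
  refine TopCat.Presheaf.section_ext (⟨W.presheaf, W.isSheaf⟩ : TopCat.Sheaf _ _) U _ _ fun x hx => ?_
  obtain ⟨V, hV, hxV, hVU'⟩ := exists_isAffineOpen_mem_and_subset (x := x) (U := U) hx
  have hVU : V ≤ U := hVU'
  have hnat : W.presheaf.map (homOfLE hVU).op (g.app U m) = g.app V (M.presheaf.map (homOfLE hVU).op m) := by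
    have := ConcreteCategory.congr_hom (g.mapPresheaf.naturality (homOfLE hVU).op) m
    exact this.symm
  have h1 := TopCat.Presheaf.germ_res_apply W.presheaf (homOfLE hVU) x hxV (g.app U m)
  show W.presheaf.germ U x hx (g.app U m) = W.presheaf.germ U x hx _
  rw [← h1]
  refine (congrArg (W.presheaf.germ V x hxV) (hnat.trans (h0 ⟨V, hV⟩ _))).trans ?_
  simp

end GrothLib.ShriekPerf22
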