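import Groth.Agent.Lib.RightAdj22.Exact
import Mathlib.CategoryTheory.Abelian.DiagramLemmas.Four

/-! # Natural transformations of exact functors, one degree at a time -/

set_option autoImplicit false
set_option maxHeartbeats 1000000
set_option linter.style.haveILetI false
universe u v v' w w'

open CategoryTheory CategoryTheory.Limits AlgebraicGeometry CategoryTheory.Pretriangulated

attribute [local instance] HasDerivedCategory.standard

namespace GrothLib.ShriekPerf22

open GrothLib.RightAdj22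

variable {D : Type w} [Category.{v} D] [Preadditive D] [HasZeroObject D] [HasShift D ℤ]
  [∀ n : ℤ, (shiftFunctor D n).Additive] [Pretriangulated D] {X : Scheme.{u}}
  {F G : D ⥤ DCoh.D X} [F.Additive] [G.Additive] (α : F ⟶ G)

/-- Invertibility in degree `i`. -/
def IsoAt (i : ℤ) (A : D) : Prop := IsIso ((DerivedCategory.homologyFunctor X.Modules i).map (α.app A))

omit [F.Additive] [G.Additive] in
theorem isoAt_of_isIso {i : ℤ} {A : D} (h : IsIso (α.app A)) : IsoAt α i A := by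
  haveI := h
  exact inferInstanceAs (IsIso ((DerivedCategory.homologyFunctor X.Modules i).map (α.app A)))

omit [F.Additive] [G.Additive] in
theorem isIso_of_isoAt {A : D} (h : ∀ i, IsoAt α i A) : IsIso (α.app A) := (DerivedCategory.isIso_iff _ _).2 h

omit [F.Additive] [G.Additive] in
theorem isoAt_of_isZero {i : ℤ} {A : D} (hF : IsZero (DCoh.HD (F.obj A) i)) (hG : IsZero (DCoh.HD (G.obj A) i)) :
    IsoAt α i A :=
  ⟨0, hF.eq_of_src _ _, hG.eq_of_src _ _⟩

omit [F.Additive] [G.Additive] in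
theorem isoAt_of_iso {i : ℤ} {A B : D} (e : A ≅ B) (h : IsoAt α i A) : IsoAt α i B :=
  (NatTrans.isIso_app_iff_of_iso (Functor.whiskerRight α (DerivedCategory.homologyFunctor X.Modules i)) e).1 h

/-- The cohomology sequence, at the middle. -/
theorem exact_H {H : D ⥤ DCoh.D X} [H.Additive] (hH : Ex H) {T : Triangle D} (hT : T ∈ distTriang D) (i : ℤ) :
    (ShortComplex.mk ((DerivedCategory.homologyFunctor X.Modules i).map (H.map T.mor₁))
      ((DerivedCategory.homologyFunctor X.Modules i).map (H.map T.mor₂))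
      (by rw [← Functor.map_comp, ← Functor.map_comp, comp_distTriang_mor_zero₁₂ T hT, Functor.map_zero,
        Functor.map_zero])).Exact := by
  obtain ⟨d, hd⟩ := hH T hT
  exact (DerivedCategory.homologyFunctor X.Modules i).map_distinguished_exact _ hd

theorem isIso_H_mor₁ {H : D ⥤ DCoh.D X} [H.Additive] (hH : Ex H) {T : Triangle D} (hT : T ∈ distTriang D) (i : ℤ)
    (h₃ : IsZero (DCoh.HD (H.obj T.obj₃) i)) (h₃' : IsZero (DCoh.HD (H.obj (T.obj₃⟦(-1 : ℤ)⟧)) i)) :
    IsIso ((DerivedCategory.homologyFunctor X.Modules i).map (H.map T.mor₁)) := by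
  haveI : Epi ((DerivedCategory.homologyFunctor X.Modules i).map (H.map T.mor₁)) :=
    (exact_H hH hT i).epi_f (h₃.eq_of_tgt _ _)
  haveI : Mono ((DerivedCategory.homologyFunctor X.Modules i).map (H.map T.mor₁)) :=
    (exact_H hH (inv_rot_of_distTriang _ hT) i).mono_g (h₃'.eq_of_src _ _)
  exact isIso_of_mono_of_epi _

theorem isIso_H_mor₂ {H : D ⥤ DCoh.D X} [H.Additive] (hH : Ex H) {T : Triangle D} (hT : T ∈ distTriang D) (i : ℤ)
    (h₁ : IsZero (DCoh.HD (H.obj T.obj₁) i)) (h₁' : IsZero (DCoh.HD (H.obj (T.obj₁⟦(1 : ℤ)⟧)) i)) :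
    IsIso ((DerivedCategory.homologyFunctor X.Modules i).map (H.map T.mor₂)) := by
  haveI : Mono ((DerivedCategory.homologyFunctor X.Modules i).map (H.map T.mor₂)) :=
    (exact_H hH hT i).mono_g (h₁.eq_of_src _ _)
  haveI : Epi ((DerivedCategory.homologyFunctor X.Modules i).map (H.map T.mor₂)) :=
    (exact_H hH (rot_of_distTriang _ hT) i).epi_f (h₁'.eq_of_tgt _ _)
  exact isIso_of_mono_of_epi _

variable (hF : Ex F) (hG : Ex G)
include hF hG

/-- Invertibility passes along a map whose cone does not contribute. -/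
theorem isoAt_obj₂_of_isZero {T : Triangle D} (hT : T ∈ distTriang D) (i : ℤ)
    (hF₃ : IsZero (DCoh.HD (F.obj T.obj₃) i)) (hF₃' : IsZero (DCoh.HD (F.obj (T.obj₃⟦(-1 : ℤ)⟧)) i))
    (hG₃ : IsZero (DCoh.HD (G.obj T.obj₃) i)) (hG₃' : IsZero (DCoh.HD (G.obj (T.obj₃⟦(-1 : ℤ)⟧)) i))
    (h₁ : IsoAt α i T.obj₁) : IsoAt α i T.obj₂ := by
  haveI := h₁
  haveI := isIso_H_mor₁ hF hT i hF₃ hF₃'
  haveI := isIso_H_mor₁ hG hT i hG₃ hG₃'
  have e := congrArg (DerivedCategory.homologyFunctor X.Modules i).map (α.naturality T.mor₁)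
  rw [Functor.map_comp, Functor.map_comp] at e
  exact @IsIso.of_isIso_fac_left _ _ _ _ _ _ _ _ (isIso_H_mor₁ hF hT i hF₃ hF₃') (IsIso.comp_isIso' h₁ (isIso_H_mor₁ hG hT i hG₃ hG₃')) e

/-- **Five lemma.** -/
theorem isoAt_obj₂ {T : Triangle D} (hT : T ∈ distTriang D) (i : ℤ)
    (h₀ : Epi ((DerivedCategory.homologyFunctor X.Modules i).map (α.app (T.obj₃⟦(-1 : ℤ)⟧))))
    (h₁ : IsoAt α i T.obj₁) (h₃ : IsoAt α i T.obj₃) (h₄ : IsoAt α i (T.obj₁⟦(1 : ℤ)⟧)) : IsoAt α i T.obj₂ := by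
  let H := DerivedCategory.homologyFunctor X.Modules i
  let F' := F ⋙ H
  let G' := G ⋙ H
  let β : F' ⟶ G' := Functor.whiskerRight α H
  haveI : IsIso (β.app T.obj₁) := h₁
  haveI : IsIso (β.app T.obj₃) := h₃
  haveI : IsIso (β.app (T.obj₁⟦(1 : ℤ)⟧)) := h₄
  let R₁ := ComposableArrows.mk₄ (F'.map T.invRotate.mor₁) (F'.map T.mor₁) (F'.map T.mor₂) (F'.map T.rotate.mor₂)
  let R₂ := ComposableArrows.mk₄ (G'.map T.invRotate.mor₁) (G'.map T.mor₁) (G'.map T.mor₂) (G'.map T.rotate.mor₂)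
  have e1 := exact_H hF (inv_rot_of_distTriang _ hT) i
  have e2 := exact_H hF hT i
  have e3 := exact_H hF (rot_of_distTriang _ hT) i
  have g1 := exact_H hG (inv_rot_of_distTriang _ hT) i
  have g2 := exact_H hG hT i
  have g3 := exact_H hG (rot_of_distTriang _ hT) i
  have hR₁ : R₁.Exact := ComposableArrows.exact_of_δ₀ e1.exact_toComposableArrows
    (ComposableArrows.exact_of_δ₀ e2.exact_toComposableArrows e3.exact_toComposableArrows)
  have hR₂ : R₂.Exact := ComposableArrows.exact_of_δ₀ g1.exact_toComposableArrows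
    (ComposableArrows.exact_of_δ₀ g2.exact_toComposableArrows g3.exact_toComposableArrows)
  let φ : R₁ ⟶ R₂ := ComposableArrows.homMk₄ (β.app _) (β.app _) (β.app _) (β.app _) (β.app _)
    (β.naturality _) (β.naturality _) (β.naturality _) (β.naturality _)
  exact Abelian.isIso_of_epi_of_isIso_of_isIso_of_mono hR₁ hR₂ φ h₀
    h₁ h₃ (inferInstanceAs (Mono (β.app (T.obj₁⟦(1 : ℤ)⟧))))

/-- **Four lemma.** -/
theorem epiAt_obj₂ {T : Triangle D} (hT : T ∈ distTriang D) (i : ℤ) (h₁ : IsoAt α i T.obj₁)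
    (h₃ : IsoAt α i T.obj₃) (h₄ : IsoAt α i (T.obj₁⟦(1 : ℤ)⟧)) :
    Epi ((DerivedCategory.homologyFunctor X.Modules i).map (α.app T.obj₂)) := by
  let H := DerivedCategory.homologyFunctor X.Modules i
  let F' := F ⋙ H
  let G' := G ⋙ H
  let β : F' ⟶ G' := Functor.whiskerRight α H
  haveI : IsIso (β.app T.obj₁) := h₁
  haveI : IsIso (β.app T.obj₃) := h₃
  haveI : IsIso (β.app (T.obj₁⟦(1 : ℤ)⟧)) := h₄
  let R₁ := ComposableArrows.mk₃ (F'.map T.mor₁) (F'.map T.mor₂) (F'.map T.rotate.mor₂)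
  let R₂ := ComposableArrows.mk₃ (G'.map T.mor₁) (G'.map T.mor₂) (G'.map T.rotate.mor₂)
  have e2 := exact_H hF hT i
  have e3 := exact_H hF (rot_of_distTriang _ hT) i
  have g2 := exact_H hG hT i
  have g3 := exact_H hG (rot_of_distTriang _ hT) i
  have hR₁ : R₁.Exact := ComposableArrows.exact_of_δ₀ e2.exact_toComposableArrows e3.exact_toComposableArrows
  have hR₂ : R₂.Exact := ComposableArrows.exact_of_δ₀ g2.exact_toComposableArrows g3.exact_toComposableArrows
  let φ : R₁ ⟶ R₂ := ComposableArrows.homMk₃ (β.app _) (β.app _) (β.app _) (β.app _)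
    (β.naturality _) (β.naturality _) (β.naturality _)
  exact Abelian.epi_of_epi_of_epi_of_mono φ hR₁ hR₂ (inferInstanceAs (Epi (β.app T.obj₁)))
    (inferInstanceAs (Epi (β.app T.obj₃))) (inferInstanceAs (Mono (β.app (T.obj₁⟦(1 : ℤ)⟧))))

end GrothLib.ShriekPerf22
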