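import Groth.Agent.Lib.RightAdj22.QFun
import Groth.Agent.Lib.RightAdj22.Coprod
import Groth.Agent.Lib.OX.Approx
import Groth.Agent.Lib.OX.CompactBdd
import Groth.Agent.Lib.OX.SumSections

/-! # The right adjoint of a proper push-forward and bounded below direct sums -/

set_option autoImplicit false
set_option maxHeartbeats 1000000
set_option linter.style.haveILetI false
universe u

open CategoryTheory CategoryTheory.Limits AlgebraicGeometry CategoryTheory.Pretriangulated GrothLib.OX
open GrothLib.TriCat (FinHom homSum_of)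

attribute [local instance] HasDerivedCategory.standard
attribute [local instance] Classical.decEq

namespace GrothLib.ShriekPerf22

variable {X Y : Scheme.{u}}

/-- Direct sums of uniformly bounded below objects are bounded below. -/
theorem isGE_coprod {ι : Type u} (M : ι → DCoh.D X) [HasCoproduct M] (n : ℤ) (h : ∀ k, (M k).IsGE n) :
    (∐ M).IsGE n :=
  (DerivedCategory.isGE_iff _ _).2 fun i hi => by
    refine IsZero.of_iso ?_ (asIso (HDsigma M i)).symm
    refine (IsZero.iff_id_eq_zero _).2 (Sigma.hom_ext _ _ fun k => ?_)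
    haveI := h k
    exact (DerivedCategory.isZero_of_isGE (M k) n i hi).eq_of_src _ _

/-- Bounded above coherent objects see direct sums of uniformly bounded below families. -/
theorem finHom_of_isCohD [IsNoetherian X] {E : DCoh.D X} (hE : DCoh.IsCohD E) (b : ℤ) [E.IsLE b]
    (hEq : DCoh.IsQCohD E) {ι : Type u} (M : ι → DCoh.D X) [HasCoproduct M] (n : ℤ) (hM : ∀ k, (M k).IsGE n) :
    FinHom M E := fun φ => by
  obtain ⟨r, hr⟩ := hasApprox_of_qcqs X ⊥ fun O hO => by simp
  obtain ⟨P, C, α, g, d, hT, hP, -, hC⟩ := hr (n - 1) E hEq (isPseudoCoherentD_of_isCohD hE b _)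
    fun i _ => vanishAt_iff_support.2 fun y _ hy => hy.elim
  haveI : C.IsLE (n - 2) := (DerivedCategory.isLE_iff _ _).2 fun i hi => hC i (by omega)
  haveI : (∐ M).IsGE n := isGE_coprod M n hM
  have key : ∀ (L : DCoh.D X), L.IsGE n → Function.Bijective fun y : E ⟶ L => α ≫ y := fun L hL => by
    haveI := hL
    constructor
    · intro y y' h
      obtain ⟨z, hz⟩ := Triangle.yoneda_exact₂ _ hT (y - y') (by
        show α ≫ (y - y') = 0
        rw [Preadditive.comp_sub]; exact sub_eq_zero.2 h)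
      have : z = 0 := DerivedCategory.TStructure.t.zero_of_isLE_of_isGE z (n - 2) n (by omega) ‹C.IsLE (n - 2)› hL
      rw [this, comp_zero] at hz
      exact sub_eq_zero.1 hz
    · intro w
      let T := (Triangle.mk α g d).invRotate
      have hT' : T ∈ distTriang _ := inv_rot_of_distTriang _ hT
      haveI : T.obj₁.IsLE (n - 1) := DerivedCategory.TStructure.t.isLE_shift C (n - 2) (-1) (n - 1) (by omega)
      have h0 : T.mor₁ ≫ w = 0 :=
        DerivedCategory.TStructure.t.zero_of_isLE_of_isGE _ (n - 1) n (by omega) inferInstance inferInstance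
      obtain ⟨y, hy⟩ := Triangle.yoneda_exact₂ T hT' w h0
      exact ⟨y, hy.symm⟩
  obtain ⟨c, hc⟩ := finHom_of_isPerfect_of_isGE hP M n hM (α ≫ φ)
  suffices h : ∀ c, ∃ d, α ≫ PerfAux.homSumToHomCoprod E M d = PerfAux.homSumToHomCoprod P M c by
    obtain ⟨d', hd'⟩ := h c
    exact ⟨d', (key (∐ M) inferInstance).1 (hd'.trans hc)⟩
  intro c
  induction c using DirectSum.induction_on with
  | zero => exact ⟨0, by rw [map_zero, map_zero, comp_zero]⟩
  | of i x =>
    obtain ⟨y, hy⟩ := (key (M i) (hM i)).2 x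
    exact ⟨DirectSum.of (fun i => E ⟶ M i) i y, by rw [homSum_of, homSum_of, ← hy]; exact (Category.assoc _ _ _).symm⟩
  | add a b ha hb =>
    obtain ⟨d₁, h₁⟩ := ha
    obtain ⟨d₂, h₂⟩ := hb
    exact ⟨d₁ + d₂, by rw [map_add, map_add, Preadditive.comp_add, h₁, h₂]⟩

/-- **The right adjoint of a proper push-forward commutes with uniformly bounded below direct sums.** -/
theorem isIso_adjoint_sigma [IsNoetherian Y] (f : X ⟶ Y) [IsProper f] [DCoh.HasRpush f]
    (hf : DCoh.RpushPreservesQCoh f) {a : DCoh.DQCoh Y ⥤ DCoh.DQCoh X} (adj : DCoh.RpushQ f hf ⊣ a)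
    {ι : Type u} (K : ι → DCoh.DQCoh Y) (n : ℤ) (hK : ∀ k, (K k).obj.IsGE n) :
    IsIso (Sigma.desc fun k => a.map (Sigma.ι K k)) := by
  haveI : CompactSpace X := QuasiCompact.compactSpace_of_compactSpace f
  haveI : QuasiSeparatedSpace X := quasiSeparatedSpace_of_quasiSeparated f
  haveI := RightAdj22.additive_of_adj adj
  haveI : HasCoproduct fun k => (K k).obj := (HoCat.derivedCategory_hasColimitsOfShape (C := Y.Modules) (J := ι)).has_colimit _
  haveI := preservesColimitOfShape_of_createsColimitsOfShape_and_hasColimitsOfShape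
    (F := (DCoh.IsQCohD (X := Y)).ι) (J := Discrete ι)
  let φ := Sigma.desc fun k => a.map (Sigma.ι K k)
  suffices h : IsIso φ.hom by
    haveI : IsIso ((DCoh.IsQCohD (X := X)).ι.map φ) := h
    exact isIso_of_fully_faithful (DCoh.IsQCohD (X := X)).ι φ
  refine Detect22.isIso_of_perfect_hom (∐ fun k => a.obj (K k)).property (a.obj (∐ K)).property φ.hom fun P hP => ?_
  let P' : DCoh.DQCoh X := ⟨P, isQCohD_of_isPerfect hP⟩
  haveI : IsLocallyNoetherian X := LocallyOfFiniteType.isLocallyNoetherian f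
  obtain ⟨l₀, hl₀⟩ := KSix19.ProjPush.exists_isGE_of_isPerfect hP
  obtain ⟨b₀, hb₀⟩ := exists_isLE_of_isPerfect hP
  have hPc : DCoh.IsCohD P := fun i =>
    KSix19.BettiExact.isCoh_HD_of_pseudoCoherent (isPseudoCoherentD_of_isPerfect hP (i - 1)) (by omega)
  have hprop : WSerre.cohIn (RpushSupp20.properP f) P := fun i =>
    ⟨hPc i, QCoh.isClosed_support_of_isCoh (hPc i), inferInstance⟩
  obtain ⟨hRc, -⟩ := RpushSupp20.isCohD_Rpush f P l₀ hprop
  obtain ⟨b', hb'⟩ := RpushSupp20.exists_isLE_Rpush f P l₀ b₀ hprop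
  haveI : ((DCoh.RpushQ f hf).obj P').obj.IsLE b' := hb'
  have h := RightAdj22.bijective_comp_sigmaDesc adj K (P := P') (finHom_DQCoh hP _)
    (finHom_of_fullyFaithful (DCoh.IsQCohD (X := Y)).ι K
      (inferInstanceAs (IsIso (sigmaComparison (DCoh.IsQCohD (X := Y)).ι K)))
      (finHom_of_isCohD (E := ((DCoh.RpushQ f hf).obj P').obj) hRc b' ((DCoh.RpushQ f hf).obj P').property
        (fun k => (K k).obj) n hK))
  refine ⟨fun x y hxy => ?_, fun y => ?_⟩
  · exact congrArg (fun g : P' ⟶ _ => g.hom)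
      (h.1 (a₁ := ObjectProperty.homMk x) (a₂ := ObjectProperty.homMk y) (ObjectProperty.hom_ext _ hxy))
  · obtain ⟨x, hx⟩ := h.2 (ObjectProperty.homMk y : P' ⟶ a.obj (∐ K))
    exact ⟨x.hom, congrArg (fun g : P' ⟶ _ => g.hom) hx⟩

/-- The right adjoint of a proper push-forward has bounded amplitude below. -/
theorem exists_isGE_adjoint [IsNoetherian Y] (f : X ⟶ Y) [IsProper f] [DCoh.HasRpush f]
    (hf : DCoh.RpushPreservesQCoh f) {a : DCoh.DQCoh Y ⥤ DCoh.DQCoh X} (adj : DCoh.RpushQ f hf ⊣ a) :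
    ∃ N : ℕ, ∀ (K : DCoh.DQCoh Y) (c : ℤ), K.obj.IsGE c → (a.obj K).obj.IsGE (c - N) := by
  obtain ⟨N, hN⟩ := RightAdj22.exists_isGE_aQ f
  refine ⟨N, fun K c hK => ?_⟩
  exact @CategoryTheory.Triangulated.TStructure.isGE_of_iso _ _ _ _ _ _ _ DerivedCategory.TStructure.t _ _
    ((ObjectProperty.ι _).mapIso ((RightAdj22.aQUniq f hf adj).app K)).symm (c - N) (hN K c hK)

end GrothLib.ShriekPerf22
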