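import Groth.Agent.Lib.ShriekPerf22.ThetaPerfect
import Groth.Agent.Lib.ShriekPerf22.Chart
import Groth.Agent.Lib.ShriekPerf22.SigmaBdd
import Groth.Agent.Lib.ShriekPerf22.Cover
import Groth.Agent.Lib.ShriekPerf22.Exact
import Groth.Agent.Lib.OX.HomAmplitude
import Groth.Agent.Lib.OX.HomVanish
import Groth.Agent.Lib.ThickDesc6.Pull
import Groth.Agent.Lib.OX.LTensorCoprod
import Groth.Agent.Lib.SuppTens22.Local

/-! # `f^! = Lf^*(-) ⊗^L f^!O` on bounded below complexes, for a perfect morphism -/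

set_option autoImplicit false
set_option maxHeartbeats 1000000
set_option linter.style.haveILetI false
universe u

open CategoryTheory CategoryTheory.Limits AlgebraicGeometry CategoryTheory.Pretriangulated GrothLib.OX
  GrothLib.RightAdj22

attribute [local instance] HasDerivedCategory.standard

noncomputable section

namespace GrothLib.ShriekPerf22

variable {X Y : Scheme.{u}}

theorem lpull_congr {f g : X ⟶ Y} (h : f = g) [DCoh.HasLpull f] [DCoh.HasLpull g] :
    Nonempty (DCoh.Lpull f ≅ DCoh.Lpull g) := by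
  subst h
  exact ⟨Iso.refl _⟩

/-- Cohomology vanishes when it vanishes on a cover. -/
theorem isZero_HD_of_charts {K : DCoh.D X} (i : ℤ)
    (h : ∀ x : X, ∃ (W : Scheme.{u}) (j : W ⟶ X) (_ : IsOpenImmersion j), x ∈ Set.range j ∧
      IsZero (DCoh.HD ((resD j).obj K) i)) : IsZero (DCoh.HD K i) := by
  refine isZero_of_subsingleton_stalks _ fun x => ?_
  obtain ⟨W, j, hj, hx, hz⟩ := h x
  exact not_not.1 fun hs => support_subset_of_isZero_HD_resD j hz hs hx

/-- A map in `D_qc` completed by an object bounded below, from a truncation. -/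
theorem exists_trunc_triangle (K : DCoh.DQCoh X) (m : ℤ) :
    ∃ T ∈ distTriang (DCoh.DQCoh X), T.obj₂ = K ∧ T.obj₁.obj.IsLE m ∧ T.obj₃.obj.IsGE (m + 1) ∧
      (∀ c, K.obj.IsGE c → T.obj₁.obj.IsGE c) ∧ (∀ b, K.obj.IsLE b → T.obj₃.obj.IsLE b) := by
  let t := DerivedCategory.TStructure.t (C := X.Modules)
  let A : DCoh.DQCoh X := ⟨(t.truncLT (m + 1)).obj K.obj, isQCohD_truncLT K.property _⟩
  let g : A ⟶ K := ObjectProperty.homMk ((t.truncLTι (m + 1)).app K.obj)
  obtain ⟨C, p, d, hT⟩ := distinguished_cocone_triangle g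
  obtain ⟨e, -⟩ := exists_iso_of_arrow_iso _ _ ((DCoh.IsQCohD (X := X)).ι.map_distinguished _ hT)
    (t.triangleLTGE_distinguished (m + 1) K.obj) (Arrow.isoMk (Iso.refl _) (Iso.refl _) ((Category.id_comp _).trans (Category.comp_id _).symm))
  let e₃ : C.obj ≅ (t.truncGE (m + 1)).obj K.obj := Triangle.π₃.mapIso e
  refine ⟨_, hT, rfl, ?_, ?_, fun c hc => ?_, fun b hb => ?_⟩
  · exact t.isLE_truncLT_obj K.obj (m + 1) m
  · exact t.isGE_of_iso e₃.symm (m + 1)
  · refine (DerivedCategory.isGE_iff _ _).2 fun i hi => ?_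
    rcases lt_or_ge i (m + 1) with h | h
    · have h' := DerTrunc.isIso_homology_truncLTι K.obj (m + 1) i h
      exact (DerivedCategory.isZero_of_isGE K.obj c i hi).of_iso (@asIso _ _ _ _ _ h')
    · haveI h' : ((t.truncLT (m + 1)).obj K.obj).IsLE m := t.isLE_truncLT_obj K.obj (m + 1) m
      exact DerivedCategory.isZero_of_isLE ((t.truncLT (m + 1)).obj K.obj) m i (by omega)
  · haveI := hb
    haveI : ((t.truncGE (m + 1)).obj K.obj).IsLE b := inferInstance
    exact t.isLE_of_iso e₃.symm b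

variable [AlgebraicGeometry.IsNoetherian X] [AlgebraicGeometry.IsNoetherian Y] (f : X ⟶ Y) [LocallyOfFiniteType f]
  (hperf : MoreMor.IsPerfectMor f)
  (c : DEt.Compactification f) [DCoh.HasRpush c.fbar]
  (hc : DCoh.RpushPreservesQCoh c.fbar) {a : DCoh.DQCoh Y ⥤ DCoh.DQCoh c.Xbar}
  (adj : DCoh.RpushQ c.fbar hc ⊣ a) [PreservesFiniteLimits (Scheme.Modules.restrictFunctor c.j)]

set_option maxHeartbeats 4000000 in
include adj hperf in
/-- **`f^! K ≅ Lf^*K ⊗^L f^!O`**, naturally on bounded below complexes. -/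
theorem nonempty_shriekC_iso [DCoh.HasLpull f] (O : DCoh.DQCoh Y)
    (hO : Nonempty (O.obj ≅ DCoh.inD Y (Coh.structureModule Y))) (E : CochainComplex X.Modules ℤ)
    (hE : Nonempty (DCoh.toD X E ≅ (Dual3.shriekC c a).obj O)) [DCoh.HasLTensorCx E] :
    Nonempty (Dual3.bddι Y ⋙ Dual3.shriekC c a ≅
      Dual3.bddι Y ⋙ ObjectProperty.ι _ ⋙ DCoh.Lpull f ⋙ DCoh.LTensorCx E) := by
  let p := c.fbar
  let j := c.j
  haveI : CompactSpace c.Xbar := QuasiCompact.compactSpace_of_compactSpace p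
  haveI : QuasiSeparatedSpace c.Xbar := quasiSeparatedSpace_of_quasiSeparated p
  haveI : DCoh.HasLpull p := hasLpull p
  haveI : DCoh.HasLpull j := hasLpull j
  haveI : DCoh.HasLpull (j ≫ p) := hasLpull _
  -- the comparison map
  obtain ⟨E', -, ⟨eE'⟩⟩ := exists_kflat_rep (a.obj O).obj
  haveI := hasLTensorCx E'
  obtain ⟨θ, hθ⟩ := exists_theta p hc adj O hO E' ⟨eE'⟩
  haveI := additive_of_adj adj
  obtain ⟨ladj⟩ := nonempty_lpullAdj p
  haveI : (DCoh.Lpull p).IsLeftAdjoint := ladj.isLeftAdjoint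
  haveI := hasRSheafHom E'
  haveI : (DCoh.LTensorCx E').IsLeftAdjoint := (DCoh.RSheafHomAdj E').isLeftAdjoint
  haveI : (DCoh.Lpull p).Additive := additive_of_isLeftAdjoint _
  haveI : (DCoh.LTensorCx E').Additive := additive_of_isLeftAdjoint _
  haveI : (resD j).IsLeftAdjoint := (resDAdj j).isLeftAdjoint
  let F := (ObjectProperty.ι (DCoh.IsQCohD (X := Y)) ⋙ DCoh.Lpull p ⋙ DCoh.LTensorCx E') ⋙ resD j
  let G := (a ⋙ ObjectProperty.ι (DCoh.IsQCohD (X := c.Xbar))) ⋙ resD j
  let α : F ⟶ G := Functor.whiskerRight θ (resD j)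
  haveI : F.Additive := inferInstance
  haveI : G.Additive := inferInstance
  have hF : Ex F := fun T hT => by
    let radj := ladj.ofNatIsoRight (rpushIsoRres p)
    letI := TorBC25.lpullCommShift p radj
    haveI := TorBC25.isTriangulated_lpull p radj
    obtain ⟨d, hd⟩ := exists_triangle_ltensor' E'
      ((DCoh.Lpull p).map_distinguished _ ((DCoh.IsQCohD (X := Y)).ι.map_distinguished T hT))
    exact ⟨_, (resD j).map_distinguished _ hd⟩
  have hG : Ex G := fun T hT => by
    obtain ⟨d, hd⟩ := exists_map_triangle p hc adj hT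
    exact ⟨_, (resD j).map_distinguished _ hd⟩
  -- `F` is `Lf^*(-) ⊗^L E`
  obtain ⟨lj⟩ := SuppTens22.nonempty_lpull_openImmersion j
  obtain ⟨lf⟩ := lpull_congr c.fac
  haveI := hasLTensorCx ((resCx j).obj E')
  obtain ⟨n₀⟩ := ShriekBridge22.nonempty_resDLTensorNatIso j E'
  obtain ⟨eE⟩ := hE
  obtain ⟨cE⟩ := nonempty_ltensorCx_congr_of_iso (E := (resCx j).obj E') (E' := E)
    (((resDFac j).app E').symm ≪≫ (resD j).mapIso eE' ≪≫ eE.symm)
  let τ : F ≅ ObjectProperty.ι _ ⋙ DCoh.Lpull f ⋙ DCoh.LTensorCx E :=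
    Functor.isoWhiskerLeft (ObjectProperty.ι _) (Functor.isoWhiskerLeft (DCoh.Lpull p) n₀ ≪≫
      Functor.isoWhiskerRight (Functor.isoWhiskerLeft (DCoh.Lpull p) lj.symm ≪≫ lpullCompIso j p ≪≫ lf)
        (DCoh.LTensorCx ((resCx j).obj E')) ≪≫ Functor.isoWhiskerLeft (DCoh.Lpull f) cE)
  -- amplitude
  obtain ⟨N, hN⟩ := exists_isGE_adjoint p hc adj
  have hGge : ∀ (K : DCoh.DQCoh Y) (c₀ : ℤ), K.obj.IsGE c₀ → (G.obj K).IsGE (c₀ - N) := fun K c₀ hK => by
    haveI := hN K c₀ hK
    exact KSix19.ProjPush.isGE_resD j (a.obj K).obj _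
  have hloc : ∀ (K : DCoh.DQCoh Y) (c₀ : ℤ), K.obj.IsGE c₀ → ∀ (x : X), ∃ (U : X.Opens) (hU : IsAffineOpen U),
      x ∈ U ∧ Nonempty ((resD hU.fromSpec).obj (G.obj K) ≅ (resD hU.fromSpec).obj (F.obj K)) := fun K c₀ hK x => by
    obtain ⟨U, hU, hx, ⟨e⟩⟩ := exists_chart_iso f hperf c hc adj O hO E ⟨eE⟩ K c₀ hK x
    exact ⟨U, hU, hx, ⟨e ≪≫ (resD hU.fromSpec).mapIso (τ.app K).symm⟩⟩
  have htrans : ∀ (K : DCoh.DQCoh Y) (c₀ : ℤ), K.obj.IsGE c₀ → ∀ i : ℤ,
      (IsZero (DCoh.HD (G.obj K) i) ↔ IsZero (DCoh.HD (F.obj K) i)) := fun K c₀ hK i => by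
    constructor <;> refine fun hz => isZero_HD_of_charts i fun x => ?_
    · obtain ⟨U, hU, hx, ⟨e⟩⟩ := hloc K c₀ hK x
      exact ⟨_, hU.fromSpec, inferInstance, by rw [hU.range_fromSpec]; exact hx,
        (isZero_HD_resD hU.fromSpec hz).of_iso ((DerivedCategory.homologyFunctor _ i).mapIso e).symm⟩
    · obtain ⟨U, hU, hx, ⟨e⟩⟩ := hloc K c₀ hK x
      exact ⟨_, hU.fromSpec, inferInstance, by rw [hU.range_fromSpec]; exact hx,
        (isZero_HD_resD hU.fromSpec hz).of_iso ((DerivedCategory.homologyFunctor _ i).mapIso e)⟩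
  have hO0 := ShriekBridge22.isGE_zero_of_iso_structure hO
  obtain ⟨eO⟩ := hO
  have hOle : O.obj.IsLE 0 := DerivedCategory.TStructure.t.isLE_of_iso eO.symm 0
  obtain ⟨⟨lo, hi, hEb⟩, -⟩ := ShriekBridge22.bounded_coh_shriekC f hperf c hc adj (K := O) (lo := 0) (hi := 0)
    (fun i hi => hi.elim (fun h => DerivedCategory.isZero_of_isGE O.obj 0 i h)
      (fun h => DerivedCategory.isZero_of_isLE O.obj 0 i h))
    (fun i => by
      have := isPseudoCoherentD_of_isPerfect (isPerfect_of_iso (isPerfect_unit Y) eO.symm) (i - 1)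
      exact KSix19.BettiExact.isCoh_HD_of_pseudoCoherent this (by omega))
  have hFle : ∀ (K : DCoh.DQCoh Y) (b : ℤ), K.obj.IsLE b → (F.obj K).IsLE (b + hi) := fun K b hK => by
    haveI := ThickDesc6.isLE_lpull (f := f) hK
    have h' := isLE_ltensorCx E (c := hi) (fun i hi' => (hEb i (Or.inr hi')).of_iso
      ((hdIso E i).symm ≪≫ (DerivedCategory.homologyFunctor _ i).mapIso eE)) ((DCoh.Lpull f).obj K.obj) b
    exact @CategoryTheory.Triangulated.TStructure.isLE_of_iso _ _ _ _ _ _ _ DerivedCategory.TStructure.t _ _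
      (τ.app K).symm (b + hi) h'
  have hzero : ∀ (K : DCoh.DQCoh Y) (c₀ : ℤ), K.obj.IsGE c₀ → ∀ i : ℤ,
      (i < c₀ - N → IsZero (DCoh.HD (F.obj K) i) ∧ IsZero (DCoh.HD (G.obj K) i)) ∧
      ∀ b : ℤ, K.obj.IsLE b → b + hi < i → IsZero (DCoh.HD (F.obj K) i) ∧ IsZero (DCoh.HD (G.obj K) i) :=
    fun K c₀ hK i => ⟨fun h => by
      haveI := hGge K c₀ hK
      have hz : IsZero (DCoh.HD (G.obj K) i) := DerivedCategory.isZero_of_isGE (G.obj K) (c₀ - N) i h
      exact ⟨(htrans K c₀ hK i).1 hz, hz⟩, fun b hb h => by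
      haveI := hFle K b hb
      have hz : IsZero (DCoh.HD (F.obj K) i) := DerivedCategory.isZero_of_isLE (F.obj K) (b + hi) i h
      exact ⟨hz, (htrans K c₀ hK i).2 hz⟩⟩
  have hsh : ∀ (K : DCoh.DQCoh Y) (s : ℤ), (K⟦s⟧).obj ≅ K.obj⟦s⟧ := fun K s =>
    ((DCoh.IsQCohD (X := Y)).ι.commShiftIso s).app K
  have hshGE : ∀ (K : DCoh.DQCoh Y) (c₀ s : ℤ), K.obj.IsGE c₀ → (K⟦s⟧).obj.IsGE (c₀ - s) := fun K c₀ s h => by
    haveI : (K.obj⟦s⟧).IsGE (c₀ - s) := DerivedCategory.TStructure.t.isGE_shift K.obj c₀ s (c₀ - s) (by omega)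
    exact DerivedCategory.TStructure.t.isGE_of_iso (hsh K s).symm _
  have hshLE : ∀ (K : DCoh.DQCoh Y) (c₀ s : ℤ), K.obj.IsLE c₀ → (K⟦s⟧).obj.IsLE (c₀ - s) := fun K c₀ s h => by
    haveI : (K.obj⟦s⟧).IsLE (c₀ - s) := DerivedCategory.TStructure.t.isLE_shift K.obj c₀ s (c₀ - s) (by omega)
    exact DerivedCategory.TStructure.t.isLE_of_iso (hsh K s).symm _
  -- perfect objects
  have hperfect : ∀ P : DCoh.DQCoh Y, DCoh.IsPerfect P.obj → IsIso (α.app P) := fun P hP =>
    @Functor.map_isIso _ _ _ _ _ _ (resD j) _ (isIso_theta_perfect p hc adj E' θ hθ P hP)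
  -- coherent objects
  have hcohK : ∀ (K : DCoh.DQCoh Y) (q : ℤ), K.obj.IsGE q → K.obj.IsLE q → DCoh.IsCohD K.obj →
      ∀ i, IsoAt α i K := fun K q hge hle hcoh i => by
    obtain ⟨r, hr⟩ := hasApprox_of_qcqs Y ⊥ fun U hU => by simp
    let m := min q (i - hi - 1)
    obtain ⟨P, C, π, g, d, hT, hP, -, hC⟩ := hr m K.obj K.property (isPseudoCoherentD_of_isCohD hcoh q _)
      fun k _ => vanishAt_iff_support.2 fun y _ hy => hy.elim
    let P' : DCoh.DQCoh Y := ⟨P, isQCohD_of_isPerfect hP⟩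
    obtain ⟨C', g', d', hT'⟩ := distinguished_cocone_triangle (ObjectProperty.homMk π : P' ⟶ K)
    obtain ⟨e, -⟩ := exists_iso_of_arrow_iso _ _ ((DCoh.IsQCohD (X := Y)).ι.map_distinguished _ hT') hT
      (Arrow.isoMk (Iso.refl _) (Iso.refl _) ((Category.id_comp _).trans (Category.comp_id _).symm))
    let e₃ : C'.obj ≅ C := Triangle.π₃.mapIso e
    haveI : C.IsLE (m - 1) := (DerivedCategory.isLE_iff _ _).2 fun k hk => hC k (by omega)
    have hCle : C'.obj.IsLE (m - 1) := DerivedCategory.TStructure.t.isLE_of_iso e₃.symm _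
    obtain ⟨l₀, hl₀⟩ := KSix19.ProjPush.exists_isGE_of_isPerfect hP
    have hCge : C'.obj.IsGE (min l₀ q - 1) := by
      haveI : C.IsGE (min l₀ q - 1) := (DerivedCategory.isGE_iff _ _).2 fun k hk =>
        ((DerivedCategory.homologyFunctor Y.Modules 0).homologySequence_exact₃ _ hT k (k + 1) rfl).isZero_of_both_zeros
          ((DerivedCategory.isZero_of_isGE K.obj q k (by omega)).eq_of_src _ _)
          ((DerivedCategory.isZero_of_isGE P l₀ (k + 1) (by omega)).eq_of_tgt _ _)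
      exact DerivedCategory.TStructure.t.isGE_of_iso e₃.symm _
    have z := ((hzero C' _ hCge i).2 _ hCle (by omega))
    have z' := ((hzero _ _ (hshGE C' _ (-1) hCge) i).2 _ (hshLE C' _ (-1) hCle) (by omega))
    exact isoAt_obj₂_of_isZero α hF hG hT' i z.1 z'.1 z.2 z'.2 (isoAt_of_isIso α (hperfect P' hP))
  -- direct sums of uniformly bounded below objects
  have hsum : ∀ (ι : Type u) (K : ι → DCoh.DQCoh Y) (c₀ : ℤ), (∀ k, (K k).obj.IsGE c₀) →
      (∀ k, IsIso (α.app (K k))) → IsIso (α.app (∐ K)) := fun ι K c₀ hK h => by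
    haveI := preservesColimitOfShape_of_createsColimitsOfShape_and_hasColimitsOfShape
      (F := (DCoh.IsQCohD (X := Y)).ι) (J := Discrete ι)
    haveI := preservesColimitOfShape_of_createsColimitsOfShape_and_hasColimitsOfShape
      (F := (DCoh.IsQCohD (X := c.Xbar)).ι) (J := Discrete ι)
    haveI : HasColimitsOfShape (Discrete ι) (DCoh.D X) := HoCat.derivedCategory_hasColimitsOfShape
    haveI : PreservesColimitsOfShape (Discrete ι) (DCoh.Lpull p) := inferInstance
    haveI : PreservesColimitsOfShape (Discrete ι) (DCoh.LTensorCx E') := inferInstance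
    haveI : PreservesColimit (Discrete.functor K) a := by
      haveI : IsIso (sigmaComparison a K) := isIso_adjoint_sigma p hc adj K c₀ hK
      exact PreservesCoproduct.of_iso_comparison a K
    exact isIso_app_coproduct α K h
  -- objects concentrated in one degree: covers by sums of coherent ones
  have hcov : ∀ (K : DCoh.DQCoh Y) (q : ℤ), K.obj.IsGE q → K.obj.IsLE q →
      ∃ (S C : DCoh.DQCoh Y) (π : S ⟶ K) (g : K ⟶ C) (d : C ⟶ S⟦(1 : ℤ)⟧),
        Triangle.mk π g d ∈ distTriang (DCoh.DQCoh Y) ∧ (C.obj.IsGE (q - 1) ∧ C.obj.IsLE (q - 1)) ∧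
        (∀ i, IsoAt α i S) ∧ ∀ i, IsoAt α i (S⟦(1 : ℤ)⟧) := fun K q hge hle => by
    haveI := hge
    haveI := hle
    obtain ⟨M, ⟨eM⟩⟩ := DerivedCategory.exists_iso_singleFunctor_obj_of_isGE_of_isLE K.obj q
    let S := DerivedCategory.singleFunctor Y.Modules q
    let H := DerivedCategory.homologyFunctor Y.Modules q
    have hM : Coh.IsQCoh M := isQCoh_of_iso ((H.mapIso eM) ≪≫
      (DerivedCategory.singleFunctorCompHomologyFunctorIso Y.Modules q).app M) (K.property q)
    obtain ⟨κ, Fc, φ, hFc, hcover⟩ := exists_coh_cover M hM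
    have hScoh : ∀ l, DCoh.IsCohD (S.obj (Fc l)) := fun l => DerTrunc.cohIn_single (OX.cohP Y) (hFc l) q
    let Z : κ → DCoh.DQCoh Y := fun l => ⟨S.obj (Fc l), fun s => (hScoh l s).1⟩
    let π : (∐ Z) ⟶ K := Sigma.desc fun l => ObjectProperty.homMk (S.map (φ l) ≫ eM.inv)
    obtain ⟨C, g, d, hT⟩ := distinguished_cocone_triangle π
    have hZge : (∐ Z).obj.IsGE q ∧ (∐ Z).obj.IsLE q := by
      haveI := preservesColimitOfShape_of_createsColimitsOfShape_and_hasColimitsOfShape
        (F := (DCoh.IsQCohD (X := Y)).ι) (J := Discrete κ)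
      haveI : HasColimitsOfShape (Discrete κ) (DCoh.D Y) := HoCat.derivedCategory_hasColimitsOfShape
      let e : (∐ Z).obj ≅ ∐ (fun l => (Z l).obj) := PreservesCoproduct.iso (DCoh.IsQCohD (X := Y)).ι Z
      constructor
      · haveI : (∐ fun l => (Z l).obj).IsGE q :=
          isGE_coprod _ q fun l => inferInstanceAs (DerivedCategory.IsGE (S.obj (Fc l)) q)
        exact DerivedCategory.TStructure.t.isGE_of_iso e.symm q
      · haveI : (∐ fun l => (Z l).obj).IsLE q := (DerivedCategory.isLE_iff _ _).2 fun s hs => by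
          refine IsZero.of_iso ?_ (asIso (HDsigma (fun l => (Z l).obj) s)).symm
          refine (IsZero.iff_id_eq_zero _).2 (Sigma.hom_ext _ _ fun l => ?_)
          haveI : (Z l).obj.IsLE q := inferInstanceAs (DerivedCategory.IsLE (S.obj (Fc l)) q)
          exact (DerivedCategory.isZero_of_isLE (Z l).obj q s hs).eq_of_src _ _
        exact DerivedCategory.TStructure.t.isLE_of_iso e.symm q
    haveI : (∐ Z).obj.IsGE q := hZge.1
    haveI : (∐ Z).obj.IsLE q := hZge.2
    have hTD := (DCoh.IsQCohD (X := Y)).ι.map_distinguished _ hT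
    haveI hepi : Epi (H.map π.hom) := Preadditive.epi_of_cancel_zero _ fun {W} w hw => by
      let i₀ := (H.mapIso eM) ≪≫ (DerivedCategory.singleFunctorCompHomologyFunctorIso Y.Modules q).app M
      have h0 : i₀.inv ≫ w = 0 := hcover W _ fun l => by
        have e1 : H.map (Sigma.ι Z l).hom ≫ H.map π.hom = H.map (S.map (φ l) ≫ eM.inv) := by
          rw [← Functor.map_comp]
          exact congrArg (fun t : Z l ⟶ K => H.map t.hom) (Sigma.ι_desc (f := Z)
            (fun l => ObjectProperty.homMk (S.map (φ l) ≫ eM.inv)) l)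
        have h1 := congrArg (H.map (Sigma.ι Z l).hom ≫ ·) hw
        simp only [comp_zero] at h1
        rw [reassoc_of% e1, Functor.map_comp, Category.assoc] at h1
        rw [← cancel_epi ((DerivedCategory.singleFunctorCompHomologyFunctorIso Y.Modules q).hom.app (Fc l)),
          comp_zero]
        refine Eq.trans ?_ h1
        have n := (DerivedCategory.singleFunctorCompHomologyFunctorIso Y.Modules q).hom.naturality (φ l)
        simp only [i₀, Iso.trans_inv, Iso.app_inv, Functor.mapIso_inv, Category.assoc]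
        refine (reassoc_of% n.symm) _ |>.trans ?_
        simp
        rfl
      exact (cancel_epi i₀.inv).1 (h0.trans comp_zero.symm)
    have hC : C.obj.IsGE (q - 1) ∧ C.obj.IsLE (q - 1) := by
      constructor
      · refine (DerivedCategory.isGE_iff _ _).2 fun s hs => ?_
        exact ((DerivedCategory.homologyFunctor Y.Modules 0).homologySequence_exact₃ _ hTD s (s + 1) rfl).isZero_of_both_zeros
          ((DerivedCategory.isZero_of_isGE K.obj q s (by omega)).eq_of_src _ _)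
          ((DerivedCategory.isZero_of_isGE (∐ Z).obj q (s + 1) (by omega)).eq_of_tgt _ _)
      · refine (DerivedCategory.isLE_iff _ _).2 fun s hs => ?_
        refine ((DerivedCategory.homologyFunctor Y.Modules 0).homologySequence_exact₃ _ hTD s (s + 1) rfl).isZero_of_both_zeros
          ?_ ((DerivedCategory.isZero_of_isLE (∐ Z).obj q (s + 1) (by omega)).eq_of_tgt _ _)
        rcases eq_or_ne s q with rfl | hne
        · have hex := (DerivedCategory.homologyFunctor Y.Modules 0).homologySequence_exact₂ _ hTD s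
          have hz : H.map π.hom ≫ H.map g.hom = 0 := by
            rw [← Functor.map_comp]
            exact (congrArg H.map (comp_distTriang_mor_zero₁₂ _ hTD)).trans (H.map_zero _ _)
          exact (cancel_epi (H.map π.hom)).1 (hz.trans comp_zero.symm)
        · exact (DerivedCategory.isZero_of_isLE K.obj q s (by omega)).eq_of_src _ _
    have hS : ∀ i', IsoAt α i' (∐ Z) := fun i' => isoAt_of_isIso α (hsum κ Z q (fun l => inferInstanceAs
      (DerivedCategory.IsGE (S.obj (Fc l)) q)) fun l => isIso_of_isoAt α (hcohK (Z l) q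
        (inferInstanceAs (DerivedCategory.IsGE (S.obj (Fc l)) q))
        (inferInstanceAs (DerivedCategory.IsLE (S.obj (Fc l)) q)) (hScoh l)))
    have hS1 : ∀ i', IsoAt α i' ((∐ Z)⟦(1 : ℤ)⟧) := fun i' => isoAt_of_isIso α (by
      haveI : PreservesColimitsOfShape (Discrete κ) (shiftFunctor (DCoh.DQCoh Y) (1 : ℤ)) := inferInstance
      refine (NatTrans.isIso_app_iff_of_iso α (PreservesCoproduct.iso (shiftFunctor (DCoh.DQCoh Y) (1 : ℤ)) Z)).2
        (hsum κ _ (q - 1) (fun l => hshGE (Z l) q 1 (inferInstanceAs (DerivedCategory.IsGE (S.obj (Fc l)) q)))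
          fun l => isIso_of_isoAt α (hcohK _ (q - 1)
            (hshGE (Z l) q 1 (inferInstanceAs (DerivedCategory.IsGE (S.obj (Fc l)) q)))
            (hshLE (Z l) q 1 (inferInstanceAs (DerivedCategory.IsLE (S.obj (Fc l)) q)))
            (DerTrunc.cohIn_of_iso (OX.cohP Y) (hsh (Z l) 1).symm
              (DerTrunc.cohIn_shift (OX.cohP Y) (hScoh l) 1)))))
    exact ⟨_, C, π, g, d, hT, hC, hS, hS1⟩
  have hone : ∀ (k : ℕ) (K : DCoh.DQCoh Y) (q : ℤ), K.obj.IsGE q → K.obj.IsLE q →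
      ∀ i, hi + q - (k : ℤ) < i → IsoAt α i K := by
    intro k
    induction k with
    | zero => exact fun K q hge hle i hi' =>
        isoAt_of_isZero α ((hzero K q hge i).2 q hle (by omega)).1 ((hzero K q hge i).2 q hle (by omega)).2
    | succ k ih =>
      have hepi : ∀ (K : DCoh.DQCoh Y) (q : ℤ), K.obj.IsGE q → K.obj.IsLE q → ∀ i, hi + q - ((k + 1 : ℕ) : ℤ) < i →
          Epi ((DerivedCategory.homologyFunctor X.Modules i).map (α.app K)) := fun K q hge hle i hi' => by
        obtain ⟨S, C, π, g, d, hT, hC, hS, hS1⟩ := hcov K q hge hle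
        exact epiAt_obj₂ α hF hG hT i (hS i) (ih C (q - 1) hC.1 hC.2 i (by push_cast at hi'; omega)) (hS1 i)
      intro K q hge hle i hi'
      obtain ⟨S, C, π, g, d, hT, hC, hS, hS1⟩ := hcov K q hge hle
      exact isoAt_obj₂ α hF hG hT i
        (hepi _ q (by simpa using hshGE C _ (-1) hC.1) (by simpa using hshLE C _ (-1) hC.2) i hi')
        (hS i) (ih C (q - 1) hC.1 hC.2 i (by push_cast at hi'; omega)) (hS1 i)
  have hone' : ∀ (K : DCoh.DQCoh Y) (q : ℤ), K.obj.IsGE q → K.obj.IsLE q → IsIso (α.app K) := fun K q hge hle =>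
    isIso_of_isoAt α fun i => hone (hi + q - i + 1).toNat K q hge hle i (by omega)
  -- bounded objects
  have hbdd : ∀ (k : ℕ) (K : DCoh.DQCoh Y) (q : ℤ), K.obj.IsGE q → K.obj.IsLE (q + k) → IsIso (α.app K) := by
    intro k
    induction k with
    | zero => exact fun K q hge hle => hone' K q hge (by simpa using hle)
    | succ k ih =>
      intro K q hge hle
      obtain ⟨T, hT, rfl, h₁, h₃, hc₁, hb₃⟩ := exists_trunc_triangle K (q + k)
      have h₃' : T.obj₃.obj.IsLE (q + k + 1) := by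
        have := hb₃ _ hle
        simpa [add_assoc] using this
      refine isIso_of_isoAt α fun i => isoAt_obj₂ α hF hG hT i ?_ (isoAt_of_isIso α (ih _ q (hc₁ q hge) h₁))
        (isoAt_of_isIso α (hone' _ _ h₃ h₃')) ?_
      · haveI := hone' _ _ (hshGE _ _ (-1) h₃) (hshLE _ _ (-1) h₃')
        infer_instance
      · exact isoAt_of_isIso α (ih _ (q - 1) (hshGE _ q 1 (hc₁ q hge))
          (by simpa [sub_add_eq_add_sub] using hshLE _ _ 1 h₁))
  -- bounded below objects
  have hall : ∀ (K : DCoh.DQCoh Y) (c₀ : ℤ), K.obj.IsGE c₀ → IsIso (α.app K) := fun K c₀ hK =>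
    isIso_of_isoAt α fun i => by
      obtain ⟨T, hT, rfl, h₁, h₃, hc₁, -⟩ := exists_trunc_triangle K (max c₀ (i + N + 1))
      have z := (hzero _ _ h₃ i).1 (by omega)
      have z' := (hzero _ _ (hshGE _ _ (-1) h₃) i).1 (by omega)
      exact isoAt_obj₂_of_isZero α hF hG hT i z.1 z'.1 z.2 z'.2
        (isoAt_of_isIso α (hbdd ((max c₀ (i + N + 1)) - c₀).toNat _ c₀ (hc₁ c₀ hK) (by
          rw [Int.toNat_of_nonneg (by omega)]
          simpa using h₁)))
  let η := Functor.whiskerLeft (Dual3.bddι Y) α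
  haveI : ∀ K, IsIso (η.app K) := fun K => hall K.obj _ K.property.choose_spec
  haveI : IsIso η := NatIso.isIso_of_isIso_app η
  exact ⟨(asIso η).symm ≪≫ Functor.isoWhiskerLeft (Dual3.bddι Y) τ⟩

end GrothLib.ShriekPerf22
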