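import Groth.Agent.Lib.RightAdj22.Main
import Groth.Agent.Lib.TriCat.ThickGen

/-! # The comparison map `Lf^*(-) ⊗^L a(O) ⟶ a` at perfect objects -/

set_option autoImplicit false
set_option maxHeartbeats 1000000
set_option linter.style.haveILetI false
universe u v v' w w'

open CategoryTheory CategoryTheory.Limits AlgebraicGeometry HomologicalComplex CategoryTheory.Pretriangulated

attribute [local instance] HasDerivedCategory.standard

noncomputable section

namespace GrothLib.ShriekPerf22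

open GrothLib.OX GrothLib.RightAdj22

variable {X Y : Scheme.{u}}

/-- Additive functors: invertibility passes to sums. -/
theorem isIso_app_of_total {C : Type w} [Category.{v} C] [Preadditive C] {D : Type w'} [Category.{v'} D] [Preadditive D]
    {F G : C ⥤ D} [F.Additive] [G.Additive] (α : F ⟶ G) {A B K : C} (i₁ : A ⟶ K) (p₁ : K ⟶ A) (i₂ : B ⟶ K) (p₂ : K ⟶ B)
    (h : p₁ ≫ i₁ + p₂ ≫ i₂ = 𝟙 K) [IsIso (α.app A)] [IsIso (α.app B)] : IsIso (α.app K) := by
  refine ⟨G.map p₁ ≫ inv (α.app A) ≫ F.map i₁ + G.map p₂ ≫ inv (α.app B) ≫ F.map i₂, ?_, ?_⟩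
  · rw [Preadditive.comp_add, ← α.naturality_assoc, ← α.naturality_assoc, IsIso.hom_inv_id_assoc,
      IsIso.hom_inv_id_assoc, ← F.map_comp, ← F.map_comp, ← F.map_add, h, F.map_id]
  · rw [Preadditive.add_comp]
    simp only [Category.assoc, α.naturality, IsIso.inv_hom_id_assoc]
    rw [← G.map_comp, ← G.map_comp, ← G.map_add, h, G.map_id]

/-- The comparison map is invertible at perfect objects. -/
theorem isIso_theta_perfect [CompactSpace X] [QuasiSeparatedSpace X] [CompactSpace Y] [QuasiSeparatedSpace Y]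
    (f : X ⟶ Y) [DCoh.HasRpush f] (hf : DCoh.RpushPreservesQCoh f)
    {a : DCoh.DQCoh Y ⥤ DCoh.DQCoh X} (adj : DCoh.RpushQ f hf ⊣ a) [DCoh.HasLpull f]
    (E : CochainComplex X.Modules ℤ) [DCoh.HasLTensorCx E]
    (θ : ObjectProperty.ι _ ⋙ DCoh.Lpull f ⋙ DCoh.LTensorCx E ⟶ a ⋙ ObjectProperty.ι _)
    (hθ : ∀ (n : ℤ) (h : DCoh.IsQCohD (DerivedCategory.Q.obj ((unitCx Y)⟦n⟧))), IsIso (θ.app ⟨_, h⟩))
    (K : DCoh.DQCoh Y) (hK : DCoh.IsPerfect K.obj) : IsIso (θ.app K) := by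
  haveI : QuasiSeparated f := QuasiSeparated.of_quasiSeparatedSpace f
  haveI : QuasiCompact f := inferInstance
  obtain ⟨C, c, d, hT⟩ := distinguished_cocone_triangle (θ.app K)
  suffices hC : IsZero C from (Triangle.isZero₃_iff_isIso₁ _ hT).1 hC
  refine isZero_of_support_empty fun q => Set.eq_empty_iff_forall_notMem.2 fun x hx => ?_
  obtain ⟨V, hV, hxV, -⟩ := exists_isAffineOpen_mem_and_subset (x := f x) (U := ⊤) trivial
  let j := (f ⁻¹ᵁ V).ι
  refine (isZero_resD_iff_support j C).1 ((Triangle.isZero₃_iff_isIso₁ _ ((resD j).map_distinguished _ hT)).2 ?_) q hx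
    ⟨⟨x, hxV⟩, rfl⟩
  show IsIso ((resD j).map (θ.app K))
  haveI := hasRSheafHom E
  haveI : DCoh.HasRpush f := inferInstance
  obtain ⟨ladj⟩ := nonempty_lpullAdj f
  haveI : (DCoh.Lpull f).IsLeftAdjoint := ladj.isLeftAdjoint
  haveI : (DCoh.LTensorCx E).IsLeftAdjoint := (DCoh.RSheafHomAdj E).isLeftAdjoint
  haveI : (resD j).IsLeftAdjoint := (resDAdj j).isLeftAdjoint
  haveI : (DCoh.Lpull f).Additive := additive_of_isLeftAdjoint _
  haveI : (DCoh.LTensorCx E).Additive := additive_of_isLeftAdjoint _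
  haveI := additive_of_adj adj
  let F := (ObjectProperty.ι (DCoh.IsQCohD (X := Y)) ⋙ DCoh.Lpull f ⋙ DCoh.LTensorCx E) ⋙ resD j
  let G := (a ⋙ ObjectProperty.ι (DCoh.IsQCohD (X := X))) ⋙ resD j
  let α : F ⟶ G := Functor.whiskerRight θ (resD j)
  have hF : Ex F := fun T hT => by
    let radj := ladj.ofNatIsoRight (rpushIsoRres f)
    letI := TorBC25.lpullCommShift f radj
    haveI := TorBC25.isTriangulated_lpull f radj
    obtain ⟨d, hd⟩ := exists_triangle_ltensor' E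
      ((DCoh.Lpull f).map_distinguished _ ((DCoh.IsQCohD (X := Y)).ι.map_distinguished T hT))
    exact ⟨_, (resD j).map_distinguished _ hd⟩
  have hG : Ex G := fun T hT => by
    obtain ⟨d, hd⟩ := exists_map_triangle f hf adj hT
    exact ⟨_, (resD j).map_distinguished _ hd⟩
  -- the generators
  obtain ⟨P, hP, hPV, hgen⟩ := hasGen_of_qcqs Y V hV.isCompact
  have hUq : ∀ n : ℤ, DCoh.IsQCohD (DerivedCategory.Q.obj ((unitCx Y)⟦n⟧)) := fun n =>
    KSix19.BettiExact.isQCohD_of_iso' ((DerivedCategory.Q.commShiftIso n).app (unitCx Y) ≪≫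
      (shiftFunctor _ n).mapIso (unitCxQIso Y)).symm (isQCohD_shift (isQCohD_of_isPerfect (isPerfect_unit Y)) n)
  let E' : ULift.{u} ℤ ⊕ ULift.{u} ℤ → DCoh.DQCoh Y := Sum.elim
    (fun k => ⟨_, hUq k.down⟩) (fun k => ⟨P⟦k.down⟧, isQCohD_shift (isQCohD_of_isPerfect hP) _⟩)
  have hsh : ∀ k (m : ℤ), Nonempty ((E' k)⟦m⟧ ≅ E' (Sum.map (fun t => ⟨t.down + m⟩) (fun t => ⟨t.down + m⟩) k)) := by
    rintro (k | k) m
    · exact ⟨(DCoh.IsQCohD (X := Y)).isoMk ((((DCoh.IsQCohD (X := Y)).ι.commShiftIso m).app (E' (.inl k))) ≪≫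
        ((DerivedCategory.Q.commShiftIso m).app ((unitCx Y)⟦k.down⟧)).symm ≪≫
        DerivedCategory.Q.mapIso ((shiftFunctorAdd (CochainComplex Y.Modules ℤ) k.down m).app (unitCx Y)).symm)⟩
    · exact ⟨(DCoh.IsQCohD (X := Y)).isoMk ((((DCoh.IsQCohD (X := Y)).ι.commShiftIso m).app (E' (.inr k))) ≪≫
        ((shiftFunctorAdd (DCoh.D Y) k.down m).app P).symm)⟩
  have hperf : ∀ k, DCoh.IsPerfect (E' k).obj := by
    rintro (k | k)
    · exact isPerfect_of_iso (isPerfect_shift (isPerfect_unit Y) k.down)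
        ((DerivedCategory.Q.commShiftIso k.down).app (unitCx Y) ≪≫ (shiftFunctor _ k.down).mapIso (unitCxQIso Y)).symm
    · exact isPerfect_shift hP k.down
  have hbase : ∀ k, IsIso (α.app (E' k)) := by
    rintro (k | k)
    · exact @Functor.map_isIso _ _ _ _ _ _ (resD j) _ (hθ k.down (hUq k.down))
    · have hz : IsZero ((resD V.ι).obj (P⟦k.down⟧)) :=
        ((shiftFunctor _ k.down).map_isZero hPV).of_iso (((resD V.ι).commShiftIso k.down).app P)
      exact ⟨0, (isZero_resD_ltensor j E (isZero_resD_lpull f V hz)).eq_of_src _ _,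
        (isZero_resD_adjoint_of_perfect f hf adj V (E' (.inr k)) (hperf _) hz).eq_of_src _ _⟩
  haveI : F.Additive := inferInstance
  haveI : G.Additive := inferInstance
  let ι₂ := ULift.{u} ℤ ⊕ ULift.{u} ℤ
  let T : DCoh.D Y := DerivedCategory.Q.obj (unitCx Y)
  let U₀ : DCoh.DQCoh Y := ⟨T, isQCohD_of_isPerfect (isPerfect_of_iso (isPerfect_unit Y) (unitCxQIso Y).symm)⟩
  let P₀ : DCoh.DQCoh Y := ⟨P, isQCohD_of_isPerfect hP⟩
  let G₀ : DCoh.DQCoh Y := U₀ ⊞ P₀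
  let Q₀ : DCoh.DQCoh Y → Prop := fun A => ∀ n : ℤ, IsIso (α.app (A⟦n⟧))
  have hQ : TriCat.Thick Q₀ :=
    { zero := fun {Z} h n => ⟨0, (F.map_isZero ((shiftFunctor _ n).map_isZero h)).eq_of_src _ _,
        (G.map_isZero ((shiftFunctor _ n).map_isZero h)).eq_of_src _ _⟩
      shift := fun {A} m hA n => (NatTrans.isIso_app_iff_of_iso α ((shiftFunctorAdd _ m n).app A)).1 (hA (m + n))
      total := fun {A B C} i₁ p₁ i₂ p₂ h hA hB n => by
        haveI := hA n
        haveI := hB n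
        exact isIso_app_of_total α (i₁⟦n⟧') (p₁⟦n⟧') (i₂⟦n⟧') (p₂⟦n⟧')
          (by rw [← Functor.map_comp, ← Functor.map_comp, ← Functor.map_add, h, CategoryTheory.Functor.map_id])
      cone := fun T hT h₁ h₂ n => isIso_app_obj₃ F G α hF hG (Triangle.shift_distinguished T hT n) (h₁ n) (h₂ n)
        ((NatTrans.isIso_app_iff_of_iso α ((shiftFunctorAdd _ n (1 : ℤ)).app _)).1 (h₁ (n + 1)))
        ((NatTrans.isIso_app_iff_of_iso α ((shiftFunctorAdd _ n (1 : ℤ)).app _)).1 (h₂ (n + 1))) }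
  have hU : Q₀ U₀ := fun n => by
    let e : U₀⟦n⟧ ≅ E' (.inl ⟨n⟩) := (DCoh.IsQCohD (X := Y)).isoMk
      ((((DCoh.IsQCohD (X := Y)).ι.commShiftIso n).app U₀) ≪≫
        ((DerivedCategory.Q.commShiftIso n).app (unitCx Y)).symm :
          (U₀⟦n⟧).obj ≅ DerivedCategory.Q.obj ((unitCx Y)⟦n⟧))
    exact (NatTrans.isIso_app_iff_of_iso α e).2 (hbase (.inl ⟨n⟩))
  have hP₀ : Q₀ P₀ := fun n => by
    let e : P₀⟦n⟧ ≅ E' (.inr ⟨n⟩) := (DCoh.IsQCohD (X := Y)).isoMk
      (((DCoh.IsQCohD (X := Y)).ι.commShiftIso n).app P₀ : (P₀⟦n⟧).obj ≅ P⟦n⟧)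
    exact (NatTrans.isIso_app_iff_of_iso α e).2 (hbase (.inr ⟨n⟩))
  have hfin : ∀ A : DCoh.DQCoh Y, DCoh.IsPerfect A.obj → TriCat.FinHomOn.{u} (fun _ => True) A :=
    fun A hA ι M _ _ n => finHom_DQCoh (isPerfect_of_iso (isPerfect_shift hA n)
      (((DCoh.IsQCohD (X := Y)).ι.commShiftIso n).app A).symm) M
  refine (NatTrans.isIso_app_iff_of_iso α ((shiftFunctorZero (DCoh.DQCoh Y) ℤ).app K)).1
    (TriCat.mem_thick_of_generator.{u} (P := fun _ => True) (G := G₀) (fun _ _ _ => trivial) (fun _ _ _ _ => trivial)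
      (fun _ => trivial) (fun _ _ => inferInstance)
      ((TriCat.thick_finHomOn _).biprod
        (hfin U₀ (isPerfect_of_iso (isPerfect_unit Y) (unitCxQIso Y).symm)) (hfin P₀ hP))
      (fun M _ hM => ?_) trivial (hfin K hK) hQ (hQ.biprod hU hP₀) 0)
  have h' : ∀ (n : ℤ) (A : DCoh.DQCoh Y) (i : A ⟶ G₀) (p : G₀ ⟶ A), i ≫ p = 𝟙 A → ∀ ψ : A⟦n⟧ ⟶ M, ψ = 0 :=
    fun n A i p hip ψ => by
      have h0 := hM n (p⟦n⟧' ≫ ψ)
      calc ψ = (i ≫ p)⟦n⟧' ≫ ψ := by rw [hip, CategoryTheory.Functor.map_id, Category.id_comp]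
        _ = i⟦n⟧' ≫ p⟦n⟧' ≫ ψ := by rw [Functor.map_comp, Category.assoc]
        _ = 0 := by rw [h0, comp_zero]
  have hz := isZero_of_hom_generators V hV hgen hPV M.property
    (fun n φ => by
      let e := ((DCoh.IsQCohD (X := Y)).ι.commShiftIso n).app P₀
      rw [← cancel_epi e.hom, comp_zero]
      exact congrArg (fun g : P₀⟦n⟧ ⟶ M => g.hom) (h' n P₀ biprod.inr biprod.snd biprod.inr_snd
        (ObjectProperty.homMk (e.hom ≫ φ))))
    (fun n φ => by
      let e := ((DCoh.IsQCohD (X := Y)).ι.commShiftIso n).app U₀ ≪≫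
        ((DerivedCategory.Q.commShiftIso n).app (unitCx Y)).symm
      rw [← cancel_epi e.hom, comp_zero]
      exact congrArg (fun g : U₀⟦n⟧ ⟶ M => g.hom) (h' n U₀ biprod.inl biprod.fst biprod.inl_fst
        (ObjectProperty.homMk (e.hom ≫ φ))))
  exact (IsZero.iff_id_eq_zero M).2 (ObjectProperty.hom_ext _ (hz.eq_of_src _ _))

end GrothLib.ShriekPerf22
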